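import Groth.Agent.Lib.Helper19.RelDim.BaseChange
import Groth.Agent.Lib.Helper15.TrdegQF
import Groth.Agent.Lib.Helper15.FiniteNear
import Groth.Agent.Lib.Helper15.AlgSpUniv
import Groth.Agent.Lib.Helper15.AlgSpLocPRep
import Groth.Agent.Lib.Helper16.AlgSp.LftSp
import Groth.Agent.Lib.Helper16.AlgSp.LocPEngine
import Groth.Agent.S1240

set_option autoImplicit false
set_option linter.style.haveILetI false
universe u
open CategoryTheory CategoryTheory.Limits AlgebraicGeometry MorphismProperty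
open AlgSp Groth.Agent.Helper15 Groth.Agent.Helper16.AS

namespace Groth.Agent.Helper19.RelDim

variable {S : Scheme.{u}}

/-- converse direction of the base change invariance of the relative dimension at a point -/
theorem hasAtMor_of_baseChange {X Y Y' X' : Sp S} (hX : IsAlgSpace X) (hY : IsAlgSpace Y)
    (hY' : IsAlgSpace Y') (f : X ⟶ Y) (g : Y' ⟶ Y)
    (g' : X' ⟶ X) (f' : X' ⟶ Y') (sq : IsPullback g' f' f g)
    (hf : LocP @LocallyOfFiniteType f) (hf' : LocP @LocallyOfFiniteType f')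
    (x' : Points X') (R : WithBot ℕ∞ → Prop)
    (hd : HasAtMor (fun _ _ h u => R (FlatMor.fibreDimAt h u)) f' x') :
    HasAtMor (fun _ _ h u => R (FlatMor.fibreDimAt h u)) f (Points.map g' x') := by
  obtain ⟨U, V, a, b, h, u, ha, hb, comm, hx, -⟩ :=
    Groth.Agent.Helper15.Trdeg.exists_chart_at hX hY f hf (Points.map g' x')
  have h1 : HasAtMor (fun _ _ h' u' =>
      (fun v => v = FlatMor.fibreDimAt h.left u) (FlatMor.fibreDimAt h' u')) f
      (Points.map g' x') := ⟨U, V, a, b, h, u, ha, hb, comm, hx, rfl⟩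
  obtain ⟨U', V', a', b', h', u', ha', hb', comm', hx', hv⟩ :=
    hasAtMor_baseChange hX hY hY' f g g' f' sq hf x'
      (fun v => v = FlatMor.fibreDimAt h.left u) h1
  obtain ⟨U'', V'', a'', b'', h'', u'', ha'', hb'', comm'', hx'', hR⟩ := hd
  have hci := fibreDimAt_chart_indep f' hf' a' b' h' a'' b'' h'' ha' hb' ha'' hb'' comm' comm''
    u' u'' (hx'.trans hx''.symm)
  refine ⟨U, V, a, b, h, u, ha, hb, comm, hx, ?_⟩
  change R (FlatMor.fibreDimAt h.left u)
  have hv' : FlatMor.fibreDimAt h'.left u' = FlatMor.fibreDimAt h.left u := hv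
  rw [← hv', hci]
  exact hR

/-- the preimage in a chart of an open subspace is the range of the base-changed open immersion -/
theorem range_snd_eq_preimage {V Y : Sp S} (j : V ⟶ Y) (hj : RepWith @IsOpenImmersion j)
    {V₀ : Over S} (qV : (yon S).obj V₀ ⟶ Y) :
    Set.range (hj.rep.snd qV).left = Points.ofPt qV ⁻¹' Set.range (Points.map j) := by
  have sq := hj.rep.isPullback qV
  ext v
  constructor
  · rintro ⟨w, rfl⟩
    refine ⟨Points.ofPt (hj.rep.fst qV) w, ?_⟩
    rw [Points.map_ofPt, sq.w, ofPt_comp_yon_map]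
  · rintro ⟨y, hy⟩
    have hy' : Points.map j y = Points.map qV (Points.ofScheme V₀ v) := by
      rw [hy, Points.ofPt_eq_map_ofScheme]
    obtain ⟨p, -, hp2⟩ := exists_point_of_isPullback sq y _ hy'
    obtain ⟨w, rfl⟩ := (Points.schemeEquiv (hj.rep.pullback qV)).surjective p
    change Points.map _ (Points.ofScheme _ w) = _ at hp2
    rw [← Points.ofPt_eq_map_ofScheme, Groth.Agent.Helper15.ofPt_yon_map] at hp2
    exact ⟨w, (Points.schemeEquiv V₀).injective hp2⟩

/-- relative dimension `≤ d` over a dense open subspace implies relative dimension `≤ d`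
everywhere, for flat morphisms locally of finite type (lfp, or retrocompact open) -/
theorem relDim_le_of_dense_open {X Y V P : Sp S} (hX : IsAlgSpace X) (hY : IsAlgSpace Y)
    (hVa : IsAlgSpace V) (f : X ⟶ Y) (j : V ⟶ Y) (d : ℕ)
    (hf1 : LocP @Flat f) (hf2 : LocP @LocallyOfFiniteType f)
    (hj1 : RepWith @IsOpenImmersion j) (hj2 : Dense (Set.range (Points.map j)))
    (fst : P ⟶ X) (snd : P ⟶ V) (hP : IsPullback fst snd f j)
    (hV : ∀ x, HasAtMor (fun _ _ h u => FlatMor.fibreDimAt h u ≤ (d : WithBot ℕ∞)) snd x)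
    (h : LocP @LocallyOfFinitePresentation f ∨ IsQuasiCompactMor j) :
    ∀ x, HasAtMor (fun _ _ h u => FlatMor.fibreDimAt h u ≤ (d : WithBot ℕ∞)) f x := by
  intro x
  obtain ⟨V₀, qV, hqVe, hqVs⟩ := hY.atlas
  obtain ⟨U₀, qU, a₀, hqUe, hqUs, hcU⟩ := exists_chart_lift hX f qV hqVe hqVs
  haveI : LocallyOfFiniteType a₀.left := hf2 qU qV a₀ hqUe hqVe hcU
  haveI : Flat a₀.left := hf1 qU qV a₀ hqUe hqVe hcU
  have hsnd : LocP @LocallyOfFiniteType snd :=
    locP_of_isPullback goodP_lft srcEtLoc_lft hX hY hVa hP hf2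
  have hopen : IsOpen (Set.range (Points.map j)) := Groth.Agent.Helper15.Norm.isOpen_range_of_isOpenImmersion hY j hj1
  let Ω : V₀.left.Opens := ⟨Points.ofPt qV ⁻¹' Set.range (Points.map j),
    hopen.preimage (Points.continuous_ofPt qV)⟩
  have hΩd : Dense (Ω : Set V₀.left) := by
    rw [dense_iff_inter_open]
    intro W hW hWne
    have h1 : IsOpen (Points.ofPt qV '' W) := isOpenMap_ofPt_of_etale qV hqVe W hW
    obtain ⟨y, hy1, hy2⟩ := hj2.inter_open_nonempty _ h1 (hWne.image _)
    obtain ⟨w, hw, rfl⟩ := hy1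
    exact ⟨w, hw, hy2⟩
  have hle : ∀ u : U₀.left, a₀.left u ∈ Ω → FlatMor.fibreDimAt a₀.left u ≤ d := by
    intro u hu
    obtain ⟨y, hy⟩ := hu
    have hfx : Points.map f (Points.ofPt qU u) = Points.map j y := by
      rw [hy, Points.map_ofPt, hcU, ofPt_comp_yon_map]
    obtain ⟨p, hp1, hp2⟩ := exists_point_of_isPullback hP _ _ hfx
    have := hasAtMor_of_baseChange hX hY hVa f j fst snd hP hf2 hsnd p
      (fun v => v ≤ (d : WithBot ℕ∞)) (hV p)
    rw [hp1] at this
    exact (hasAtMor_fibreDimAt_iff f hf2 (fun v => v ≤ (d : WithBot ℕ∞)) qU qV a₀ hqUe hqVe hcU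
      u).1 this
  have hcase : LocallyOfFinitePresentation a₀.left ∨ IsRetrocompact (Ω : Set V₀.left) := by
    rcases h with h | h
    · exact Or.inl (h qU qV a₀ hqUe hqVe hcU)
    · right
      have hqc := repWith_quasiCompact_of_isQuasiCompactMor j hj1.rep h
      haveI : QuasiCompact (hj1.rep.snd qV).left := hqc.property_snd qV
      have hr := range_snd_eq_preimage j hj1 qV
      intro K hKc hKo
      have : (Ω : Set V₀.left) ∩ K =
          (hj1.rep.snd qV).left '' ((hj1.rep.snd qV).left ⁻¹' K) := by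
        rw [Set.image_preimage_eq_range_inter, hr]
        rfl
      rw [this]
      exact (QuasiCompact.isCompact_preimage (f := (hj1.rep.snd qV).left) K hKo hKc).image
        (hj1.rep.snd qV).left.continuous
  obtain ⟨u, rfl⟩ := surjective_ofPt qU hqUs x
  exact (hasAtMor_fibreDimAt_iff f hf2 (fun v => v ≤ (d : WithBot ℕ∞)) qU qV a₀ hqUe hqVe hcU
    u).2 (Groth.Agent.S1240.result a₀.left Ω hΩd d hle hcase u)

end Groth.Agent.Helper19.RelDim
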