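import Groth.Agent.Lib.Helper19.RelDim.Sp
import Groth.Agent.Lib.Helper15.TrdegQF
import Groth.Agent.Lib.Helper14.FibreGeneric
import Groth.Agent.Lib.Helper14.ResFieldBridge

set_option autoImplicit false
set_option linter.style.haveILetI false
universe u
open CategoryTheory CategoryTheory.Limits AlgebraicGeometry MorphismProperty
open AlgSp Groth.Agent.Helper15 Groth.Agent.Helper16.AS

namespace Groth.Agent.Helper19.RelDim

variable {S : Scheme.{u}}

/-- relative dimension = dimension of the local ring of the fibre + transcendence degree -/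
theorem relDim_eq_stalk_add_trdeg {X Y : Sp S} (f : X ⟶ Y)
    (hf : LocP @LocallyOfFiniteType f) (x : Points X) (d e : WithBot ℕ∞) (r : Cardinal.{u})
    (hd : HasAtMor (fun _ _ h u => FlatMor.fibreDimAt h u = d) f x)
    (he : HasAtMor (fun _ _ h u =>
      ringKrullDim ↥((h.fiber (h u)).presheaf.stalk (h.asFiber u)) = e) f x)
    (hr : HasAtMor (fun _ _ h u => Dual3.resTrdeg h u = r) f x) :
    d = e + ((Cardinal.toENat r : ℕ∞) : WithBot ℕ∞) := by
  obtain ⟨U₂, V₂, a₂, b₂, h₂, u₂, ha₂, hb₂, comm₂, hx₂, he₂⟩ := he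
  haveI : LocallyOfFiniteType h₂.left := hf a₂ b₂ h₂ ha₂ hb₂ comm₂
  obtain ⟨n, hn⟩ := Groth.Agent.Helper14.ResFieldBridge.exists_nat_trdeg_residueField h₂.left u₂
  have h1 := Groth.Agent.Helper14.FibreGeneric.fibreDimAt_eq_stalk_add_trdeg h₂.left u₂ n hn
  have hd₂ : FlatMor.fibreDimAt h₂.left u₂ = d := by
    obtain ⟨U₁, V₁, a₁, b₁, h₁, u₁, ha₁, hb₁, comm₁, hx₁, hd₁⟩ := hd
    have hd₁' : FlatMor.fibreDimAt h₁.left u₁ = d := hd₁
    rw [← hd₁']
    exact fibreDimAt_chart_indep f hf a₂ b₂ h₂ a₁ b₁ h₁ ha₂ hb₂ ha₁ hb₁ comm₂ comm₁ u₂ u₁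
      (hx₂.trans hx₁.symm)
  have hr₂ : HasAtMor (fun _ _ h u => Dual3.resTrdeg h u = (n : Cardinal.{u})) f x :=
    ⟨U₂, V₂, a₂, b₂, h₂, u₂, ha₂, hb₂, comm₂, hx₂, hn⟩
  have hnr : (n : Cardinal.{u}) = r :=
    Groth.Agent.Helper15.Trdeg.hasAtMor_resTrdeg_unique f x _ _ hr₂ hr
  have he₂' : ringKrullDim ↥((h₂.left.fiber (h₂.left u₂)).presheaf.stalk (h₂.left.asFiber u₂)) = e :=
    he₂
  rw [← hd₂, h1, he₂', ← hnr]
  simp

end Groth.Agent.Helper19.RelDim
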