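import Groth.Agent.Lib.Helper19.RelDim.Sp

set_option autoImplicit false
set_option linter.style.haveILetI false
universe u
open CategoryTheory CategoryTheory.Limits AlgebraicGeometry MorphismProperty
open AlgSp Groth.Agent.Helper15 Groth.Agent.Helper16.AS

namespace Groth.Agent.Helper19.RelDim

variable {S : Scheme.{u}}

/-- the relative dimension at a point is invariant under base change -/
theorem hasAtMor_baseChange {X Y Y' X' : Sp S} (hX : IsAlgSpace X) (hY : IsAlgSpace Y)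
    (hY' : IsAlgSpace Y') (f : X ⟶ Y) (g : Y' ⟶ Y)
    (g' : X' ⟶ X) (f' : X' ⟶ Y') (sq : IsPullback g' f' f g)
    (hf : LocP @LocallyOfFiniteType f) (x' : Points X') (R : WithBot ℕ∞ → Prop)
    (hd : HasAtMor (fun _ _ h u => R (FlatMor.fibreDimAt h u)) f (Points.map g' x')) :
    HasAtMor (fun _ _ h u => R (FlatMor.fibreDimAt h u)) f' x' := by
  obtain ⟨V₀, qV, hqVe, hqVs⟩ := hY.atlas
  obtain ⟨U₀, qU, a₀, hqUe, hqUs, hcU⟩ := exists_chart_lift hX f qV hqVe hqVs
  haveI hlft : LocallyOfFiniteType a₀.left := hf qU qV a₀ hqUe hqVe hcU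
  have hPa : IsAlgSpace (pullback g qV) :=
    isAlgSpace_pullback hY' hY (IsAlgSpace.yon_obj V₀) g qV
  obtain ⟨V₀', rV', hrVe, hrVs⟩ := hPa.atlas
  obtain ⟨w₀, hw₀⟩ := (yon S).map_surjective (rV' ≫ pullback.snd g qV)
  have sqU := IsPullback.of_hasPullback a₀ w₀
  obtain ⟨qU', hqU'1, hqU'2, hqU'e, hqU's⟩ :=
    Groth.Agent.Helper19.FibFlatLfp.exists_chart_baseChange g qV rV' hrVe hrVs w₀ hw₀ sq qU a₀ hcU sqU
  have hfste : RepWith @Etale (pullback.fst g qV) :=
    (RepWith @Etale).of_isPullback (IsPullback.of_hasPullback g qV).flip hqVe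
  have hbe : RepWith @Etale (rV' ≫ pullback.fst g qV) :=
    (RepWith @Etale).comp_mem _ _ hrVe hfste
  obtain ⟨u', rfl⟩ := surjective_ofPt qU' (hqU's hqUs) x'
  have sqU' : IsPullback (pullback.fst a₀ w₀).left (pullback.snd a₀ w₀).left a₀.left w₀.left :=
    sqU.map (Over.forget S)
  have hbc : FlatMor.fibreDimAt (pullback.snd a₀ w₀).left u' =
      FlatMor.fibreDimAt a₀.left ((pullback.fst a₀ w₀).left u') :=
    Groth.Agent.Helper14.FibreDimBC.fibreDimAt_eq sqU' u'
  have hpt : Points.map g' (Points.ofPt qU' u') = Points.ofPt qU ((pullback.fst a₀ w₀).left u') := by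
    rw [Points.map_ofPt, hqU'1, ofPt_comp_yon_map]
  rw [hpt, hasAtMor_fibreDimAt_iff f hf R qU qV a₀ hqUe hqVe hcU] at hd
  refine ⟨_, _, qU', rV' ≫ pullback.fst g qV, pullback.snd a₀ w₀, u', hqU'e hqUe, hbe, ?_, rfl, ?_⟩
  · rw [hqU'2]
  · change R (FlatMor.fibreDimAt (pullback.snd a₀ w₀).left u')
    rw [hbc]
    exact hd

end Groth.Agent.Helper19.RelDim
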