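import Mathlib
import Groth.Prelude.Def_Flat
import Groth.Agent.Lib.Helper15.FibDim0
import Groth.Agent.Lib.Helper16.Sch.FibComp1
import Groth.Agent.Lib.Helper14.FibreDimBC
import Groth.Agent.Lib.Helper2.RelGCI7
import Groth.Agent.Lib.Helper19.BddF.Etale

set_option autoImplicit false
set_option linter.style.haveILetI false
universe u
open CategoryTheory CategoryTheory.Limits AlgebraicGeometry MorphismProperty

namespace Groth.Agent.Helper19.RelDim

/-- an étale morphism has local fibre dimension zero everywhere -/
theorem fibreDimAt_etale {X Y : Scheme.{u}} (e : X ⟶ Y) [Etale e] (x : X) :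
    FlatMor.fibreDimAt e x = 0 := by
  haveI : LocallyQuasiFinite e := Groth.Agent.Helper19.BddF.locallyQuasiFinite_of_etale e
  rw [Groth.Agent.Helper15.FibDim.fibreDimAt_eq_zero_iff_quasiFiniteAt]
  exact e.quasiFiniteAt x

/-- étale localisation on the source does not change the local fibre dimension -/
theorem fibreDimAt_etale_comp {X' X Y : Scheme.{u}} (e : X' ⟶ X) [Etale e] (f : X ⟶ Y)
    [LocallyOfFiniteType f] (x' : X') :
    FlatMor.fibreDimAt (e ≫ f) x' = FlatMor.fibreDimAt f (e x') := by
  have hflat : (e.stalkMap x').hom.Flat := Flat.stalkMap e x'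
  rw [Groth.Agent.Helper16.FibComp.fibreDimAt_comp_eq e f x' hflat, fibreDimAt_etale e x',
    zero_add]

/-- étale localisation on the target does not change the local fibre dimension -/
theorem fibreDimAt_comp_etale {X Y Y' : Scheme.{u}} (f : X ⟶ Y) (e : Y ⟶ Y') [Etale e]
    [LocallyOfFiniteType f] (x : X) :
    FlatMor.fibreDimAt (f ≫ e) x = FlatMor.fibreDimAt f x := by
  haveI : LocallyOfFiniteType (f ≫ e) := inferInstance
  have sq := pullback_lift_diagonal_isPullback f e
  haveI : IsOpenImmersion (pullback.diagonal e) := inferInstance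
  haveI : IsOpenImmersion (pullback.lift (𝟙 X) f (Category.id_comp _) :
      X ⟶ pullback (f ≫ e) e) :=
    MorphismProperty.of_isPullback (P := @IsOpenImmersion) sq inferInstance
  have h1 : f = pullback.lift (𝟙 X) f (Category.id_comp _) ≫ pullback.snd (f ≫ e) e :=
    (pullback.lift_snd _ _ _).symm
  haveI : LocallyOfFiniteType (pullback.snd (f ≫ e) e) :=
    MorphismProperty.pullback_snd _ _ inferInstance
  have h2 := Groth.Agent.Helper2.RelGCI.fibreDimAt_openImmersion
    (pullback.lift (𝟙 X) f (Category.id_comp _) : X ⟶ pullback (f ≫ e) e)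
    (pullback.snd (f ≫ e) e) x
  have h3 := Groth.Agent.Helper14.FibreDimBC.fibreDimAt_eq
    (IsPullback.of_hasPullback (f ≫ e) e)
    ((pullback.lift (𝟙 X) f (Category.id_comp _) : X ⟶ pullback (f ≫ e) e) x)
  rw [← h1] at h2
  rw [h2, h3, ← Scheme.Hom.comp_apply, pullback.lift_fst]
  rfl

end Groth.Agent.Helper19.RelDim
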