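import Groth.Prelude.Def_AlgSpMor5
import Groth.Agent.Lib.Helper19.RelDim.Basic
import Groth.Agent.Lib.Helper19.FibFlat.SpBC

set_option autoImplicit false
set_option linter.style.haveILetI false
universe u
open CategoryTheory CategoryTheory.Limits AlgebraicGeometry MorphismProperty
open AlgSp Groth.Agent.Helper15 Groth.Agent.Helper16.AS

namespace Groth.Agent.Helper19.RelDim

variable {S : Scheme.{u}}

/-- **Chart independence** of the local fibre dimension: two chart diagrams of a morphism locally
of finite type through the same point have the same local fibre dimension there. -/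
theorem fibreDimAt_chart_indep {X Y : Sp S} (f : X ⟶ Y) (hf : LocP @LocallyOfFiniteType f)
    {U V U' V' : Over S} (a : (yon S).obj U ⟶ X) (b : (yon S).obj V ⟶ Y) (h : U ⟶ V)
    (a' : (yon S).obj U' ⟶ X) (b' : (yon S).obj V' ⟶ Y) (h' : U' ⟶ V')
    (ha : RepWith @Etale a) (hb : RepWith @Etale b) (ha' : RepWith @Etale a')
    (hb' : RepWith @Etale b') (comm : a ≫ f = (yon S).map h ≫ b)
    (comm' : a' ≫ f = (yon S).map h' ≫ b') (u : U.left) (u' : U'.left)
    (hx : Points.ofPt a u = Points.ofPt a' u') :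
    FlatMor.fibreDimAt h.left u = FlatMor.fibreDimAt h'.left u' := by
  have hrepa := ha.rep
  have hrepb := hb.rep
  have sqP := hrepa.isPullback' a'
  have sqQ := hrepb.isPullback' b'
  haveI hp₁ : Etale (hrepa.fst' a').left :=
    (repWith_yon_map_iff _ _).1 ((RepWith @Etale).of_isPullback sqP.flip ha')
  haveI hp₂ : Etale (hrepa.snd a').left :=
    (repWith_yon_map_iff _ _).1 ((RepWith @Etale).of_isPullback sqP ha)
  haveI hq₁ : Etale (hrepb.fst' b').left :=
    (repWith_yon_map_iff _ _).1 ((RepWith @Etale).of_isPullback sqQ.flip hb')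
  haveI hq₂ : Etale (hrepb.snd b').left :=
    (repWith_yon_map_iff _ _).1 ((RepWith @Etale).of_isPullback sqQ hb)
  obtain ⟨v, hv1, hv2⟩ := exists_of_ofPt_eq sqP u u' hx
  have hk : (yon S).map (hrepa.fst' a' ≫ h) ≫ b = (yon S).map (hrepa.snd a' ≫ h') ≫ b' := by
    rw [Functor.map_comp, Functor.map_comp, Category.assoc, Category.assoc, ← comm, ← comm',
      sqP.w_assoc]
  let k := hrepb.lift' (hrepa.fst' a' ≫ h) (hrepa.snd a' ≫ h') hk
  have hk1 : k ≫ hrepb.fst' b' = hrepa.fst' a' ≫ h := hrepb.lift'_fst _ _ _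
  have hk2 : k ≫ hrepb.snd b' = hrepa.snd a' ≫ h' := hrepb.lift'_snd _ _ _
  haveI : LocallyOfFiniteType h.left := hf a b h ha hb comm
  haveI : LocallyOfFiniteType h'.left := hf a' b' h' ha' hb' comm'
  have hk1' : k.left ≫ (hrepb.fst' b').left = (hrepa.fst' a').left ≫ h.left :=
    congrArg (fun m => m.left) hk1
  have hk2' : k.left ≫ (hrepb.snd b').left = (hrepa.snd a').left ≫ h'.left :=
    congrArg (fun m => m.left) hk2
  haveI : LocallyOfFiniteType (k.left ≫ (hrepb.fst' b').left) := by
    rw [hk1']; infer_instance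
  haveI : LocallyOfFiniteType k.left := locallyOfFiniteType_of_comp k.left (hrepb.fst' b').left
  have e1 := fibreDimAt_etale_comp (hrepa.fst' a').left h.left v
  have e2 := fibreDimAt_comp_etale k.left (hrepb.fst' b').left v
  have e3 := fibreDimAt_etale_comp (hrepa.snd a').left h'.left v
  have e4 := fibreDimAt_comp_etale k.left (hrepb.snd b').left v
  rw [hv1] at e1
  rw [hv2] at e3
  rw [← e1, ← hk1', e2, ← e3, ← hk2', e4]

/-- a property of the local fibre dimension can be tested on any chart diagram through the point -/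
theorem hasAtMor_fibreDimAt_iff {X Y : Sp S} (f : X ⟶ Y) (hf : LocP @LocallyOfFiniteType f)
    (R : WithBot ℕ∞ → Prop)
    {U V : Over S} (a : (yon S).obj U ⟶ X) (b : (yon S).obj V ⟶ Y) (h : U ⟶ V)
    (ha : RepWith @Etale a) (hb : RepWith @Etale b) (comm : a ≫ f = (yon S).map h ≫ b)
    (u : U.left) :
    HasAtMor (fun _ _ h u => R (FlatMor.fibreDimAt h u)) f (Points.ofPt a u) ↔
      R (FlatMor.fibreDimAt h.left u) := by
  constructor
  · rintro ⟨U', V', a', b', h', u', ha', hb', comm', hx', hR⟩
    rwa [fibreDimAt_chart_indep f hf a b h a' b' h' ha hb ha' hb' comm comm' u u' hx'.symm]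
  · intro hR
    exact ⟨U, V, a, b, h, u, ha, hb, comm, rfl, hR⟩

end Groth.Agent.Helper19.RelDim
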