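import Groth.Agent.Lib.Helper19.RelDim.Sp

set_option autoImplicit false
set_option linter.style.haveILetI false
universe u
open CategoryTheory CategoryTheory.Limits AlgebraicGeometry MorphismProperty
open AlgSp Groth.Agent.Helper15 Groth.Agent.Helper16.AS

namespace Groth.Agent.Helper19.RelDim

variable {S : Scheme.{u}}

/-- relative dimension of a composite at a point -/
theorem hasAtMor_comp {X Y Z : Sp S} (f : X ⟶ Y) (g : Y ⟶ Z)
    (hf : LocP @LocallyOfFiniteType f) (hg : LocP @LocallyOfFiniteType g)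
    (x : Points X) (a b : WithBot ℕ∞)
    (ha : HasAtMor (fun _ _ h u => FlatMor.fibreDimAt h u = a) f x)
    (hb : HasAtMor (fun _ _ h u => FlatMor.fibreDimAt h u = b) g (Points.map f x)) :
    HasAtMor (fun _ _ h u => FlatMor.fibreDimAt h u ≤ a + b) (f ≫ g) x ∧
    (IsFlatAtMor f x → HasAtMor (fun _ _ h u => FlatMor.fibreDimAt h u = a + b) (f ≫ g) x) := by
  obtain ⟨U₁, V₁, a₁, b₁, h₁, u₁, ha₁, hb₁, comm₁, hx₁, hd₁⟩ := ha
  obtain ⟨V₂, W₂, b₂, c₂, k₂, v₂, hb₂, hc₂, comm₂, hx₂, hd₂⟩ := hb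
  have hrep := hb₂.rep
  have sq := hrep.isPullback' (a₁ ≫ f)
  -- `sq : IsPullback (yon fst') (yon snd) b₂ (a₁ ≫ f)`
  haveI hsnd : Etale (hrep.snd (a₁ ≫ f)).left :=
    (repWith_yon_map_iff _ _).1 ((RepWith @Etale).of_isPullback sq hb₂)
  have hpt : Points.ofPt b₂ v₂ = Points.ofPt (a₁ ≫ f) u₁ := by
    rw [hx₂, ← hx₁, Points.map_ofPt]
  obtain ⟨p, hp1, hp2⟩ := exists_of_ofPt_eq sq v₂ u₁ hpt
  have hae : RepWith @Etale ((yon S).map (hrep.snd (a₁ ≫ f)) ≫ a₁) :=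
    (RepWith @Etale).comp_mem _ _ ((repWith_yon_map_iff _ _).2 hsnd) ha₁
  have commf : ((yon S).map (hrep.snd (a₁ ≫ f)) ≫ a₁) ≫ f =
      (yon S).map (hrep.fst' (a₁ ≫ f)) ≫ b₂ := by
    rw [Category.assoc]; exact sq.w.symm
  have commfg : ((yon S).map (hrep.snd (a₁ ≫ f)) ≫ a₁) ≫ f ≫ g =
      (yon S).map (hrep.fst' (a₁ ≫ f) ≫ k₂) ≫ c₂ := by
    rw [← Category.assoc, commf, Category.assoc, comm₂, Functor.map_comp, Category.assoc]
  have hxp : Points.ofPt ((yon S).map (hrep.snd (a₁ ≫ f)) ≫ a₁) p = x := by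
    rw [ofPt_comp_yon_map, hp2, hx₁]
  haveI : LocallyOfFiniteType (hrep.fst' (a₁ ≫ f)).left := hf _ _ _ hae hb₂ commf
  haveI : LocallyOfFiniteType k₂.left := hg _ _ _ hb₂ hc₂ comm₂
  have hdf : FlatMor.fibreDimAt (hrep.fst' (a₁ ≫ f)).left p = a := by
    rw [← hd₁]
    exact fibreDimAt_chart_indep f hf _ b₂ (hrep.fst' (a₁ ≫ f)) a₁ b₁ h₁ hae hb₂ ha₁ hb₁ commf
      comm₁ p u₁ (by rw [hxp, hx₁])
  refine ⟨⟨_, _, _, c₂, hrep.fst' (a₁ ≫ f) ≫ k₂, p, hae, hc₂, commfg, hxp, ?_⟩, fun hfl =>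
    ⟨_, _, _, c₂, hrep.fst' (a₁ ≫ f) ≫ k₂, p, hae, hc₂, commfg, hxp, ?_⟩⟩
  · have := Groth.Agent.Helper16.FibComp.fibreDimAt_comp_le (hrep.fst' (a₁ ≫ f)).left k₂.left p
    rw [hdf, hp1, hd₂] at this
    exact this
  · have hflat : ((hrep.fst' (a₁ ≫ f)).left.stalkMap p).hom.Flat :=
      hfl _ b₂ (hrep.fst' (a₁ ≫ f)) p hae hb₂ commf hxp
    have := Groth.Agent.Helper16.FibComp.fibreDimAt_comp_eq (hrep.fst' (a₁ ≫ f)).left k₂.left p
      hflat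
    rw [hdf, hp1, hd₂] at this
    exact this

end Groth.Agent.Helper19.RelDim
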