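import Groth.Agent.Lib.Helper19.RelDim.Sp
import Groth.Agent.S9355

set_option autoImplicit false
set_option linter.style.haveILetI false
universe u
open CategoryTheory CategoryTheory.Limits AlgebraicGeometry MorphismProperty
open AlgSp Groth.Agent.Helper15 Groth.Agent.Helper16.AS

namespace Groth.Agent.Helper19.RelDim

variable {S : Scheme.{u}}

/-- an open compact subset of the points of a space is the image of a compact open of an atlas -/
theorem exists_compact_open_lift {X : Sp S} {U₀ : Over S} (qU : (yon S).obj U₀ ⟶ X)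
    (hqUe : RepWith @Etale qU) (hqUs : RepWith @Surjective qU) (V : Set (Points X))
    (hV : IsOpen V) (hVc : IsCompact V) :
    ∃ W : Set U₀.left, IsOpen W ∧ IsCompact W ∧ Points.ofPt qU '' W = V := by
  have hpre : IsOpen (Points.ofPt qU ⁻¹' V) := hV.preimage (Points.continuous_ofPt qU)
  -- for each point of the preimage choose an affine (compact) open neighbourhood inside
  have hex : ∀ u : {u : U₀.left // u ∈ Points.ofPt qU ⁻¹' V}, ∃ W : U₀.left.Opens,
      IsCompact (W : Set U₀.left) ∧ u.1 ∈ W ∧ (W : Set U₀.left) ⊆ Points.ofPt qU ⁻¹' V := by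
    intro u
    obtain ⟨W, hW, huW, hsub⟩ := exists_isAffineOpen_mem_and_subset (X := U₀.left) (x := u.1)
      (U := ⟨_, hpre⟩) u.2
    exact ⟨W, hW.isCompact, huW, hsub⟩
  choose Wf hWc hWm hWs using hex
  have hcov : V ⊆ ⋃ u, Points.ofPt qU '' (Wf u : Set U₀.left) := by
    intro x hx
    obtain ⟨u, rfl⟩ := surjective_ofPt qU hqUs x
    exact Set.mem_iUnion.2 ⟨⟨u, hx⟩, u, hWm ⟨u, hx⟩, rfl⟩
  obtain ⟨t, ht⟩ := hVc.elim_finite_subcover _
    (fun u => isOpenMap_ofPt_of_etale qU hqUe _ (Wf u).2) hcov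
  refine ⟨⋃ u ∈ t, (Wf u : Set U₀.left), isOpen_biUnion (fun u _ => (Wf u).2),
    t.isCompact_biUnion (fun u _ => hWc u), ?_⟩
  apply Set.Subset.antisymm
  · rintro _ ⟨w, hw, rfl⟩
    obtain ⟨u, hu, hwu⟩ := Set.mem_iUnion₂.1 hw
    exact hWs u hwu
  · intro x hx
    obtain ⟨u, hu, w, hw, rfl⟩ := Set.mem_iUnion₂.1 (ht hx)
    exact ⟨w, Set.mem_iUnion₂.2 ⟨u, hu, hw⟩, rfl⟩

/-- for `f` locally of finite presentation, the locus of relative dimension `≤ n` is
retrocompact -/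
theorem isCompact_inter_relDim_le {X Y : Sp S} (hX : IsAlgSpace X) (hY : IsAlgSpace Y)
    (f : X ⟶ Y) (hf : LocP @LocallyOfFinitePresentation f) (n : ℕ) (V : Set (Points X))
    (hV : IsOpen V) (hVc : IsCompact V) :
    IsCompact (V ∩ {x : Points X |
      HasAtMor (fun _ _ h u => FlatMor.fibreDimAt h u ≤ (n : WithBot ℕ∞)) f x}) := by
  have hf2 : LocP @LocallyOfFiniteType f := by
    intro U V a b h ha hb comm
    haveI : LocallyOfFinitePresentation h.left := hf a b h ha hb comm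
    infer_instance
  obtain ⟨V₀, qV, hqVe, hqVs⟩ := hY.atlas
  obtain ⟨U₀, qU, a₀, hqUe, hqUs, hcU⟩ := exists_chart_lift hX f qV hqVe hqVs
  haveI : LocallyOfFinitePresentation a₀.left := hf qU qV a₀ hqUe hqVe hcU
  obtain ⟨W, hWo, hWc, hWV⟩ := exists_compact_open_lift qU hqUe hqUs V hV hVc
  have hretro := Groth.Agent.S9355.result a₀.left n
  have hcomp : IsCompact ({u : U₀.left | FlatMor.fibreDimAt a₀.left u ≤ n} ∩ W) := hretro hWc hWo
  have : V ∩ {x : Points X |
      HasAtMor (fun _ _ h u => FlatMor.fibreDimAt h u ≤ (n : WithBot ℕ∞)) f x} =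
      Points.ofPt qU '' ({u : U₀.left | FlatMor.fibreDimAt a₀.left u ≤ n} ∩ W) := by
    ext x
    constructor
    · rintro ⟨hxV, hxL⟩
      rw [← hWV] at hxV
      obtain ⟨w, hw, rfl⟩ := hxV
      exact ⟨w, ⟨(hasAtMor_fibreDimAt_iff f hf2 (fun v => v ≤ (n : WithBot ℕ∞)) qU qV a₀ hqUe
        hqVe hcU w).1 hxL, hw⟩, rfl⟩
    · rintro ⟨w, ⟨hwT, hwW⟩, rfl⟩
      refine ⟨?_, (hasAtMor_fibreDimAt_iff f hf2 (fun v => v ≤ (n : WithBot ℕ∞)) qU qV a₀ hqUe
        hqVe hcU w).2 hwT⟩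
      rw [← hWV]
      exact ⟨w, hwW, rfl⟩
  rw [this]
  exact hcomp.image (Points.continuous_ofPt qU)

end Groth.Agent.Helper19.RelDim
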